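import Mathlib
import Cfsg.Agent.Lib.SymTwo.SylowTwo

/-!
Overgroups of Sylow 2-subgroups of symmetric and alternating groups.
-/

set_option autoImplicit false

namespace CfsgLib.AltMax

open Equiv Equiv.Perm

variable {α : Type*} [Fintype α] [DecidableEq α]

/-- The permutations preserving a set. -/
def setFix (O : Set α) : Subgroup (Perm α) where
  carrier := {g | ∀ a, a ∈ O ↔ g a ∈ O}
  one_mem' := fun a => Iff.rfl
  mul_mem' := fun {g h} hg hh a => (hh a).trans (hg (h a))
  inv_mem' := fun {g} hg a => by simpa using (hg (g⁻¹ a)).symm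

/-- The permutations preserving the partition into a set and its complement. -/
def pairFix (O : Set α) : Subgroup (Perm α) where
  carrier := {g | (∀ a, a ∈ O ↔ g a ∈ O) ∨ (∀ a, a ∈ O ↔ g a ∉ O)}
  one_mem' := Or.inl fun a => Iff.rfl
  mul_mem' := fun {g h} hg hh => by
    rcases hg with hg | hg <;> rcases hh with hh | hh
    · exact Or.inl fun a => (hh a).trans (hg (h a))
    · exact Or.inr fun a => (hh a).trans (not_congr (hg (h a)))
    · exact Or.inr fun a => (hh a).trans (hg (h a))
    · exact Or.inl fun a => by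
        have h1 := hh a; have h2 := hg (h a)
        rw [Perm.mul_apply]
        tauto
  inv_mem' := fun {g} hg => by
    rcases hg with hg | hg
    · exact Or.inl fun a => by simpa using (hg (g⁻¹ a)).symm
    · exact Or.inr fun a => by
        have h1 : g⁻¹ a ∈ O ↔ a ∉ O := by simpa using hg (g⁻¹ a)
        tauto

theorem setFix_le_pairFix (O : Set α) : setFix O ≤ pairFix O := fun _ h => Or.inl h

theorem swap_mem_setFix (O : Set α) {a b : α} (h : a ∈ O ↔ b ∈ O) : swap a b ∈ setFix O := by
  intro x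
  by_cases hxa : x = a
  · subst hxa; rw [swap_apply_left]; exact h
  by_cases hxb : x = b
  · subst hxb; rw [swap_apply_right]; exact h.symm
  rw [swap_apply_of_ne_of_ne hxa hxb]

theorem swap_trans (K : Subgroup (Perm α)) {a b c : α} (hab : swap a b ∈ K) (hbc : swap b c ∈ K) :
    swap a c ∈ K := by
  by_cases h1 : a = c
  · subst h1; rw [swap_self]; exact one_mem K
  by_cases h2 : a = b
  · subst h2; exact hbc
  by_cases h3 : b = c
  · subst h3; exact hab
  have h := K.mul_mem (K.mul_mem hab hbc) (K.inv_mem hab)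
  rw [← swap_apply_apply (swap a b) b c, swap_apply_right,
    swap_apply_of_ne_of_ne (Ne.symm h1) (Ne.symm h3)] at h
  exact h

theorem eq_top_of_swaps (K : Subgroup (Perm α)) (h : ∀ a b, swap a b ∈ K) : K = ⊤ := by
  rw [eq_top_iff, ← Perm.closure_isSwap, Subgroup.closure_le]
  rintro σ ⟨x, y, -, rfl⟩
  exact h x y

theorem eq_top_of_crossing (K : Subgroup (Perm α)) (O : Set α)
    (hK : ∀ a b, (a ∈ O ↔ b ∈ O) → swap a b ∈ K) {a b : α} (ha : a ∈ O) (hb : b ∉ O)
    (h : swap a b ∈ K) : K = ⊤ := by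
  apply eq_top_of_swaps
  intro x y
  by_cases hx : x ∈ O <;> by_cases hy : y ∈ O
  · exact hK x y (iff_of_true hx hy)
  · exact swap_trans K (swap_trans K (hK x a (iff_of_true hx ha)) h) (hK b y (iff_of_false hb hy))
  · rw [swap_comm]
    exact swap_trans K (swap_trans K (hK y a (iff_of_true hy ha)) h) (hK b x (iff_of_false hb hx))
  · exact hK x y (iff_of_false hx hy)

theorem swap_mem_centralizer {z : Perm α} (hz : z * z = 1) (a : α) :
    swap a (z a) ∈ Subgroup.centralizer {z} := by
  rw [Subgroup.mem_centralizer_singleton_iff]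
  have hzz : z (z a) = a := Perm.congr_fun hz a
  rw [mul_swap_eq_swap_mul, hzz, swap_comm]

theorem double_swap_mem_centralizer {z : Perm α} (hz : z * z = 1) {a b : α}
    (h1 : b ≠ a) (h2 : b ≠ z a) (h3 : z a ≠ a) (h4 : z b ≠ b) :
    swap a b * swap (z a) (z b) ∈ Subgroup.centralizer {z} := by
  rw [Subgroup.mem_centralizer_singleton_iff]
  have hzz : ∀ x, z (z x) = x := fun x => Perm.congr_fun hz x
  have h5 : z b ≠ a := fun h => h2 (by rw [← h, hzz])
  have hzab : z a ≠ z b := fun h => h1 (z.injective h).symm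
  have hd : Commute (swap a b) (swap (z a) (z b)) := by
    apply Disjoint.commute
    intro x
    by_cases hxa : x = a
    · subst hxa; exact Or.inr (swap_apply_of_ne_of_ne h3.symm h5.symm)
    by_cases hxb : x = b
    · subst hxb; exact Or.inr (swap_apply_of_ne_of_ne h2 h4.symm)
    exact Or.inl (swap_apply_of_ne_of_ne hxa hxb)
  calc swap a b * swap (z a) (z b) * z = swap a b * (swap (z a) (z b) * z) := mul_assoc _ _ _
    _ = swap a b * (z * swap a b) := by rw [mul_swap_eq_swap_mul]
    _ = swap a b * z * swap a b := (mul_assoc _ _ _).symm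
    _ = z * swap (z a) (z b) * swap a b := by
        have : swap a b * z = z * swap (z a) (z b) := by
          rw [mul_swap_eq_swap_mul, hzz, hzz]
        rw [this]
    _ = z * (swap (z a) (z b) * swap a b) := mul_assoc _ _ _
    _ = z * (swap a b * swap (z a) (z b)) := by rw [hd.eq]

theorem eq_top_of_centralizer (K : Subgroup (Perm α)) (O : Set α)
    (hK : ∀ a b, (a ∈ O ↔ b ∈ O) → swap a b ∈ K) {z : Perm α} (hz : z * z = 1)
    (hfix : ∀ a, z a ≠ a) (hC : Subgroup.centralizer {z} ≤ K) (hne : ∃ a, a ∈ O) (hne' : ∃ a, a ∉ O)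
    (hcard : 8 ≤ Fintype.card α) : K = ⊤ := by
  classical
  have hzz : ∀ x, z (z x) = x := fun x => Perm.congr_fun hz x
  by_cases hcross : ∃ a ∈ O, z a ∉ O
  · obtain ⟨a, ha, hza⟩ := hcross
    exact eq_top_of_crossing K O hK ha hza (hC (swap_mem_centralizer hz a))
  push Not at hcross
  have hinv : ∀ a, a ∉ O → z a ∉ O := fun a ha h => ha (by simpa [hzz] using hcross _ h)
  obtain ⟨a0, ha0⟩ := hne
  obtain ⟨b0, hb0⟩ := hne'
  have hbig : 4 ≤ (Finset.univ.filter (· ∈ O)).card ∨ 4 ≤ (Finset.univ.filter (· ∉ O)).card := by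
    have := Finset.card_filter_add_card_filter_not (s := (Finset.univ : Finset α)) (· ∈ O)
    rw [Finset.card_univ] at this
    omega
  have hπ := hC (double_swap_mem_centralizer hz (a := a0) (b := b0) (fun h => hb0 (h ▸ ha0))
    (fun h => hb0 (h ▸ hcross _ ha0)) (hfix a0) (hfix b0))
  set π := swap a0 b0 * swap (z a0) (z b0)
  rcases hbig with hb | hb
  · obtain ⟨c, hc, hca, hcza⟩ : ∃ c ∈ O, c ≠ a0 ∧ c ≠ z a0 := by
      have hlt : ({a0, z a0} : Finset α).card < (Finset.univ.filter (· ∈ O)).card :=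
        lt_of_le_of_lt Finset.card_le_two (by omega)
      obtain ⟨c, hc, hc'⟩ := Finset.exists_mem_notMem_of_card_lt_card hlt
      simp only [Finset.mem_insert, Finset.mem_singleton, not_or] at hc'
      exact ⟨c, (Finset.mem_filter.mp hc).2, hc'⟩
    have h := K.mul_mem (K.mul_mem hπ (hK a0 c (iff_of_true ha0 hc))) (K.inv_mem hπ)
    rw [← swap_apply_apply π a0 c] at h
    have e1 : π a0 = b0 := by
      show swap a0 b0 (swap (z a0) (z b0) a0) = b0
      rw [swap_apply_of_ne_of_ne (hfix a0).symm (fun e => hinv b0 hb0 (by rw [← e]; exact ha0)), swap_apply_left]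
    have e2 : π c = c := by
      show swap a0 b0 (swap (z a0) (z b0) c) = c
      rw [swap_apply_of_ne_of_ne hcza (fun e => hinv b0 hb0 (by rw [← e]; exact hc)),
        swap_apply_of_ne_of_ne hca (fun e => hb0 (by rw [← e]; exact hc))]
    rw [e1, e2, swap_comm] at h
    exact eq_top_of_crossing K O hK hc hb0 h
  · obtain ⟨c, hc, hca, hcza⟩ : ∃ c, c ∉ O ∧ c ≠ b0 ∧ c ≠ z b0 := by
      have hlt : ({b0, z b0} : Finset α).card < (Finset.univ.filter (· ∉ O)).card :=
        lt_of_le_of_lt Finset.card_le_two (by omega)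
      obtain ⟨c, hc, hc'⟩ := Finset.exists_mem_notMem_of_card_lt_card hlt
      simp only [Finset.mem_insert, Finset.mem_singleton, not_or] at hc'
      exact ⟨c, (Finset.mem_filter.mp hc).2, hc'⟩
    have h := K.mul_mem (K.mul_mem hπ (hK b0 c (iff_of_false hb0 hc))) (K.inv_mem hπ)
    rw [← swap_apply_apply π b0 c] at h
    have e1 : π b0 = a0 := by
      show swap a0 b0 (swap (z a0) (z b0) b0) = a0
      rw [swap_apply_of_ne_of_ne (fun e => hb0 (by rw [e]; exact hcross _ ha0)) (hfix b0).symm,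
        swap_apply_right]
    have e2 : π c = c := by
      show swap a0 b0 (swap (z a0) (z b0) c) = c
      rw [swap_apply_of_ne_of_ne (fun e => hc (by rw [e]; exact hcross _ ha0)) hcza,
        swap_apply_of_ne_of_ne (fun e => hc (by rw [e]; exact ha0)) hca]
    rw [e1, e2] at h
    exact eq_top_of_crossing K O hK ha0 hc h

theorem centralizer_ne_top {z : Perm α} (hfix : ∀ a, z a ≠ a) (hcard : 3 ≤ Fintype.card α) :
    Subgroup.centralizer {z} ≠ (⊤ : Subgroup (Perm α)) := by
  intro h
  obtain ⟨a⟩ : Nonempty α := Fintype.card_pos_iff.mp (by omega)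
  obtain ⟨b, -, hb⟩ := Finset.exists_mem_notMem_of_card_lt_card
    (s := {a, z a}) (t := (Finset.univ : Finset α))
    (lt_of_le_of_lt Finset.card_le_two (by rw [Finset.card_univ]; omega))
  simp only [Finset.mem_insert, Finset.mem_singleton, not_or] at hb
  have hm : swap a b ∈ Subgroup.centralizer {z} := h ▸ trivial
  rw [Subgroup.mem_centralizer_singleton_iff] at hm
  have h2 : swap a b (z a) = z (swap a b a) := Perm.congr_fun hm a
  rw [swap_apply_left, swap_apply_of_ne_of_ne (hfix a) (Ne.symm hb.2)] at h2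
  exact hb.1 (z.injective h2).symm

theorem setFix_ne_top {O : Set α} {a b : α} (ha : a ∈ O) (hb : b ∉ O) : setFix O ≠ ⊤ := by
  intro h
  have := ((h ▸ trivial : swap a b ∈ setFix O) a).mp ha
  rw [swap_apply_left] at this
  exact hb this

theorem pairFix_ne_top {O : Set α} {a b : α} (ha : a ∈ O) (hb : b ∉ O)
    (hcard : 3 ≤ Fintype.card α) : pairFix O ≠ ⊤ := by
  intro h
  obtain ⟨c, -, hc⟩ := Finset.exists_mem_notMem_of_card_lt_card
    (s := {a, b}) (t := (Finset.univ : Finset α))
    (lt_of_le_of_lt Finset.card_le_two (by rw [Finset.card_univ]; omega))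
  simp only [Finset.mem_insert, Finset.mem_singleton, not_or] at hc
  rcases (h ▸ trivial : swap a b ∈ pairFix O) with h1 | h1
  · have := (h1 a).mp ha
    rw [swap_apply_left] at this
    exact hb this
  · have := h1 c
    rw [swap_apply_of_ne_of_ne hc.1 hc.2] at this
    exact iff_not_self this

/-- A Sylow 2-subgroup centralizes a maximal involution and contains its transpositions. -/
theorem exists_pairing (T : Sylow 2 (Perm α)) :
    ∃ z : Perm α, z * z = 1 ∧ (T : Subgroup (Perm α)) ≤ Subgroup.centralizer {z} ∧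
      z.support.card = 2 * (Fintype.card α / 2) ∧
      ∀ a, swap a (z a) ∈ (T : Subgroup (Perm α)) := by
  obtain ⟨z, hz, hT⟩ := SymTwo.exists_central_maxInv T
  refine ⟨z, SymTwo.mul_self_of_type hz, hT, SymTwo.card_support_maxInv hz, fun a => ?_⟩
  by_cases ha : a ∈ z.support
  · have hc := cycleOf_mem_cycleFactorsFinset_iff.mpr ha
    obtain ⟨x, y, hxy, hsw⟩ := Perm.card_support_eq_two.mp (SymTwo.card_support_cycle hz hc)
    have hmem := SymTwo.cycle_mem_sylow hz T hT hc
    have happ := cycleOf_apply_self z a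
    rw [hsw] at happ hmem
    have hne : z a ≠ a := Perm.mem_support.mp ha
    by_cases hax : a = x
    · subst hax
      rw [swap_apply_left] at happ
      rw [← happ]; exact hmem
    by_cases hay : a = y
    · subst hay
      rw [swap_apply_right] at happ
      rw [← happ, swap_comm]; exact hmem
    rw [swap_apply_of_ne_of_ne hax hay] at happ
    exact absurd happ.symm hne
  · rw [Perm.notMem_support.mp ha, swap_self]
    exact one_mem _

theorem orbit_card_pow (T : Sylow 2 (Perm α)) (x : α) :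
    ∃ j, Nat.card (MulAction.orbit (T : Subgroup (Perm α)) x) = 2 ^ j :=
  T.isPGroup'.card_orbit x

/-- If the stabilizer lies in a subgroup `K`, then the 2-part of the index of `K` divides the orbit length. -/
theorem pow_dvd_orbit (T : Sylow 2 (Perm α)) (x : α) (K : Subgroup (Perm α))
    (hK : ∀ g ∈ (T : Subgroup (Perm α)), g x = x → g ∈ K) {k : ℕ} (hk : 2 ^ k ∣ K.index) :
    2 ^ k ∣ Nat.card (MulAction.orbit (T : Subgroup (Perm α)) x) := by
  set S := MulAction.stabilizer (T : Subgroup (Perm α)) x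
  have h1 : Nat.card (MulAction.orbit (T : Subgroup (Perm α)) x) = S.index := by
    rw [MulAction.index_stabilizer]
    rfl
  have h2 : Nat.card S ∣ Nat.card K := by
    rw [← Subgroup.card_map_of_injective (K := S) (Subgroup.subtype_injective (T : Subgroup (Perm α)))]
    apply Subgroup.card_dvd_of_le
    rintro _ ⟨g, hg, rfl⟩
    exact hK g.1 g.2 hg
  have h3 : 2 ^ k * Nat.card S ∣ Nat.card (Perm α) := by
    rw [← K.index_mul_card]
    exact mul_dvd_mul hk h2
  obtain ⟨i, hi⟩ := IsPGroup.iff_card.mp (T.isPGroup'.to_subgroup S)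
  have h4 : 2 ^ k * Nat.card S ∣ Nat.card (T : Subgroup (Perm α)) := by
    rw [T.card_eq_multiplicity, hi, ← pow_add]
    apply pow_dvd_pow
    rw [← Nat.Prime.pow_dvd_iff_le_factorization Nat.prime_two Nat.card_pos.ne', pow_add, ← hi]
    exact h3
  rw [← S.index_mul_card, ← h1] at h4
  exact Nat.dvd_of_mul_dvd_mul_right Nat.card_pos h4

theorem stabilizer_index (a : α) : (MulAction.stabilizer (Perm α) a).index = Fintype.card α := by
  rw [MulAction.index_stabilizer_of_transitive, Nat.card_eq_fintype_card]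

theorem two_point_index {a b : α} (h : a ≠ b) :
    (MulAction.stabilizer (Perm α) a ⊓ MulAction.stabilizer (Perm α) b).index =
      Fintype.card α * (Fintype.card α - 1) := by
  rw [← Subgroup.relIndex_mul_index (inf_le_left : _ ≤ MulAction.stabilizer (Perm α) a),
    Subgroup.inf_relIndex_left, stabilizer_index, mul_comm]
  congr 1
  show ((MulAction.stabilizer (Perm α) b).subgroupOf (MulAction.stabilizer (Perm α) a)).index = _
  have e : (MulAction.stabilizer (Perm α) b).subgroupOf (MulAction.stabilizer (Perm α) a) =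
      MulAction.stabilizer (MulAction.stabilizer (Perm α) a) b := by
    ext g; rfl
  rw [e, MulAction.index_stabilizer]
  have horb : MulAction.orbit (MulAction.stabilizer (Perm α) a) b = ({a}ᶜ : Set α) := by
    ext y
    constructor
    · rintro ⟨g, rfl⟩ hy
      have hga : (g : Perm α) a = a := g.2
      exact h ((g : Perm α).injective (hga.trans hy.symm))
    · intro hy
      exact ⟨⟨swap b y, swap_apply_of_ne_of_ne h (Ne.symm hy)⟩, swap_apply_left b y⟩
  rw [horb, Set.ncard_compl, Set.ncard_singleton, Nat.card_eq_fintype_card]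

theorem transitive_of_pow (T : Sylow 2 (Perm α)) {k : ℕ} (hk : Fintype.card α = 2 ^ k) (x y : α) :
    ∃ g ∈ (T : Subgroup (Perm α)), g x = y := by
  have h := pow_dvd_orbit T x (MulAction.stabilizer _ x) (fun g _ hg => hg) (k := k)
    (by rw [stabilizer_index, hk])
  have hfull : MulAction.orbit (T : Subgroup (Perm α)) x = Set.univ := by
    apply Set.eq_of_subset_of_ncard_le (Set.subset_univ _) ?_ (Set.toFinite _)
    rw [Set.ncard_univ, Nat.card_eq_fintype_card, hk, ← Nat.card_coe_set_eq]
    haveI : Nonempty (MulAction.orbit (T : Subgroup (Perm α)) x) := ⟨⟨x, MulAction.mem_orbit_self x⟩⟩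
    exact Nat.le_of_dvd Nat.card_pos h
  obtain ⟨g, hg⟩ := (hfull ▸ Set.mem_univ y : y ∈ MulAction.orbit (T : Subgroup (Perm α)) x)
  exact ⟨g.1, g.2, hg⟩

theorem fixed_of_odd (T : Sylow 2 (Perm α)) (hodd : Odd (Fintype.card α)) {z : Perm α}
    (hT : (T : Subgroup (Perm α)) ≤ Subgroup.centralizer {z})
    (hs : z.support.card = 2 * (Fintype.card α / 2)) :
    ∃ f, z f = f ∧ (∀ a, z a = a → a = f) ∧ ∀ g ∈ (T : Subgroup (Perm α)), g f = f := by
  have h1 : z.supportᶜ.card = 1 := by
    rw [Finset.card_compl, hs]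
    obtain ⟨r, hr⟩ := hodd
    omega
  obtain ⟨f, hf⟩ := Finset.card_eq_one.mp h1
  have hmem : ∀ a, z a = a ↔ a = f := fun a => by
    exact Perm.notMem_support.symm.trans (by rw [← Finset.mem_compl, hf, Finset.mem_singleton])
  refine ⟨f, (hmem f).mpr rfl, fun a => (hmem a).mp, fun g hg => (hmem _).mp ?_⟩
  have := Perm.congr_fun (Subgroup.mem_centralizer_singleton_iff.mp (hT hg)) f
  simp only [Perm.mul_apply, (hmem f).mpr rfl] at this
  exact this.symm

theorem transitive_off_fixed (T : Sylow 2 (Perm α)) {k : ℕ} (hk : Fintype.card α = 2 ^ k + 1)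
    {f : α} (hf : ∀ g ∈ (T : Subgroup (Perm α)), g f = f) {x y : α} (hx : x ≠ f) (hy : y ≠ f) :
    ∃ g ∈ (T : Subgroup (Perm α)), g x = y := by
  have h := pow_dvd_orbit T x (MulAction.stabilizer _ f ⊓ MulAction.stabilizer _ x)
    (fun g hg hgx => ⟨hf g hg, hgx⟩) (k := k) (by
      rw [two_point_index (Ne.symm hx), hk, Nat.add_sub_cancel]
      exact dvd_mul_left _ _)
  haveI : Nonempty (MulAction.orbit (T : Subgroup (Perm α)) x) := ⟨⟨x, MulAction.mem_orbit_self x⟩⟩
  have hsub : MulAction.orbit (T : Subgroup (Perm α)) x ⊆ ({f}ᶜ : Set α) := by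
    rintro _ ⟨g, rfl⟩ he
    exact hx ((g : Perm α).injective (he.trans (hf g.1 g.2).symm))
  have hfull : MulAction.orbit (T : Subgroup (Perm α)) x = ({f}ᶜ : Set α) := by
    apply Set.eq_of_subset_of_ncard_le hsub ?_ (Set.toFinite _)
    rw [Set.ncard_compl, Set.ncard_singleton, Nat.card_eq_fintype_card, hk, Nat.add_sub_cancel,
      ← Nat.card_coe_set_eq]
    exact Nat.le_of_dvd Nat.card_pos h
  obtain ⟨g, hg⟩ := (hfull ▸ hy : y ∈ MulAction.orbit (T : Subgroup (Perm α)) x)
  exact ⟨g.1, g.2, hg⟩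

/-- Away from degree `2 ^ k + 1` two proper overgroups generate the symmetric group. -/
theorem exists_two_overgroups (T : Sylow 2 (Perm α)) (hn : 5 ≤ Fintype.card α)
    (h6 : Fintype.card α ≠ 6) (hnot : ¬ ∃ k : ℕ, 2 ≤ k ∧ Fintype.card α = 2 ^ k + 1) :
    ∃ K₁ K₂ : Subgroup (Perm α), (T : Subgroup (Perm α)) ≤ K₁ ∧ (T : Subgroup (Perm α)) ≤ K₂ ∧
      K₁ ≠ ⊤ ∧ K₂ ≠ ⊤ ∧ K₁ ⊔ K₂ = ⊤ := by
  classical
  obtain ⟨z, hz, hTz, hs, -⟩ := exists_pairing T
  by_cases hodd : Odd (Fintype.card α)
  · obtain ⟨f, -, -, hTf⟩ := fixed_of_odd T hodd hTz hs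
    obtain ⟨x, -, hx⟩ := Finset.exists_mem_notMem_of_card_lt_card (s := {f})
      (t := (Finset.univ : Finset α)) (by rw [Finset.card_singleton, Finset.card_univ]; omega)
    rw [Finset.mem_singleton] at hx
    set O : Set α := MulAction.orbit (T : Subgroup (Perm α)) x with hO
    have hxO : x ∈ O := MulAction.mem_orbit_self x
    have hfO : f ∉ O := by
      rintro ⟨g, hg⟩
      exact hx ((g : Perm α).injective (hg.trans (hTf g.1 g.2).symm))
    obtain ⟨y, hyf, hyO⟩ : ∃ y, y ≠ f ∧ y ∉ O := by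
      by_contra hcon
      push Not at hcon
      have hOeq : O = ({f}ᶜ : Set α) := by
        ext w
        exact ⟨fun hw he => hfO (he ▸ hw), fun hw => hcon w hw⟩
      obtain ⟨j, hj⟩ := orbit_card_pow T x
      rw [← hO, hOeq, Nat.card_coe_set_eq, Set.ncard_compl, Set.ncard_singleton,
        Nat.card_eq_fintype_card] at hj
      refine hnot ⟨j, ?_, by omega⟩
      by_contra hlt
      have : 2 ^ j ≤ 2 ^ 1 := Nat.pow_le_pow_right (by omega) (by omega)
      omega
    refine ⟨setFix {f}, setFix O, ?_, ?_, setFix_ne_top rfl hx, setFix_ne_top hxO hfO, ?_⟩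
    · intro g hg a
      simp only [Set.mem_singleton_iff]
      constructor
      · rintro rfl; exact hTf g hg
      · intro h; exact g.injective (h.trans (hTf g hg).symm)
    · intro g hg a
      constructor
      · rintro ⟨t, rfl⟩; exact ⟨⟨g, hg⟩ * t, rfl⟩
      · rintro ⟨t, ht⟩
        refine ⟨⟨g, hg⟩⁻¹ * t, ?_⟩
        show g⁻¹ ((t : Perm α) x) = a
        rw [show (t : Perm α) x = g a from ht]; simp
    · refine eq_top_of_crossing _ {f} (fun a b hab =>
        (le_sup_left : setFix {f} ≤ _) (swap_mem_setFix _ hab)) rfl (b := y) hyf ?_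
      exact (le_sup_right : setFix O ≤ _) (swap_mem_setFix _ (iff_of_false hfO hyO))
  · have heven : z.support = Finset.univ := by
      apply Finset.eq_univ_of_card
      rw [hs]
      rw [Nat.not_odd_iff_even] at hodd
      obtain ⟨r, hr⟩ := hodd
      omega
    have hfix : ∀ a, z a ≠ a := fun a => Perm.mem_support.mp (heven ▸ Finset.mem_univ a)
    have hn8 : 8 ≤ Fintype.card α := by
      rw [Nat.not_odd_iff_even] at hodd
      obtain ⟨r, hr⟩ := hodd
      omega
    obtain ⟨x⟩ : Nonempty α := Fintype.card_pos_iff.mp (by omega)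
    suffices h : ∃ (O : Set α) (K : Subgroup (Perm α)), (∃ a, a ∈ O) ∧ (∃ a, a ∉ O) ∧ K ≠ ⊤ ∧
        (T : Subgroup (Perm α)) ≤ K ∧ setFix O ≤ K by
      obtain ⟨O, K, hne, hne', hKt, hTK, hOK⟩ := h
      refine ⟨K, Subgroup.centralizer {z}, hTK, hTz, hKt, centralizer_ne_top hfix (by omega), ?_⟩
      exact eq_top_of_centralizer _ O (fun a b hab => Subgroup.mem_sup_left (hOK (swap_mem_setFix O hab)))
        hz hfix le_sup_right hne hne' hn8
    by_cases htr : ∀ y, y ∈ MulAction.orbit (T : Subgroup (Perm α)) x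
    · set S := MulAction.stabilizer (T : Subgroup (Perm α)) x with hS
      have hStop : S ≠ ⊤ := by
        intro h
        obtain ⟨y, -, hy⟩ := Finset.exists_mem_notMem_of_card_lt_card (s := {x})
          (t := (Finset.univ : Finset α)) (by rw [Finset.card_singleton, Finset.card_univ]; omega)
        rw [Finset.mem_singleton] at hy
        obtain ⟨g, rfl⟩ := htr y
        exact hy (h ▸ trivial : g ∈ S)
      obtain ⟨M, hM, hSM⟩ := (eq_top_or_exists_le_coatom S).resolve_left hStop
      haveI : Fact (Nat.Prime 2) := ⟨Nat.prime_two⟩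
      haveI : Group.IsNilpotent (T : Subgroup (Perm α)) := T.isPGroup'.isNilpotent
      haveI : M.Normal := Subgroup.NormalizerCondition.normal_of_coatom M normalizerCondition_of_isNilpotent hM
      have hidx : M.index = 2 := by
        obtain ⟨w, hw⟩ : ∃ w : ((T : Subgroup (Perm α)) ⧸ M), orderOf w = 2 := by
          apply exists_prime_orderOf_dvd_card'
          obtain ⟨i, hi⟩ := IsPGroup.iff_card.mp (T.isPGroup'.to_quotient M)
          rcases i with _ | i
          · exfalso
            apply hM.1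
            rw [← Subgroup.index_eq_one, Subgroup.index_eq_card, hi, pow_zero]
          · rw [hi]; exact dvd_pow_self 2 (by omega)
        have hlt : M < (Subgroup.zpowers w).comap (QuotientGroup.mk' M) := by
          refine lt_of_le_of_ne ?_ ?_
          · intro g hg
            rw [Subgroup.mem_comap, QuotientGroup.mk'_apply, (QuotientGroup.eq_one_iff g).mpr hg]
            exact one_mem _
          · intro he
            obtain ⟨g, hg⟩ := QuotientGroup.mk'_surjective M w
            have : g ∈ M := by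
              rw [he, Subgroup.mem_comap, hg]; exact Subgroup.mem_zpowers w
            rw [QuotientGroup.mk'_apply, (QuotientGroup.eq_one_iff g).mpr this] at hg
            rw [← hg, orderOf_one] at hw
            omega
        have htop := hM.2 _ hlt
        have h2 : Subgroup.zpowers w = ⊤ := by
          rw [← Subgroup.map_comap_eq_self_of_surjective (QuotientGroup.mk'_surjective M) (Subgroup.zpowers w),
            htop, Subgroup.map_top_of_surjective _ (QuotientGroup.mk'_surjective M)]
        rw [Subgroup.index_eq_card, ← Subgroup.card_top, ← h2, Nat.card_zpowers, hw]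
      set O : Set α := MulAction.orbit M x with hO
      have hxO : x ∈ O := MulAction.mem_orbit_self x
      have key : ∀ g : (T : Subgroup (Perm α)), ((g : Perm α) x ∈ O ↔ g ∈ M) := by
        intro g
        constructor
        · rintro ⟨m, hm⟩
          have : (m : (T : Subgroup (Perm α)))⁻¹ * g ∈ M := hSM (by
            show ((m : (T : Subgroup (Perm α)))⁻¹ * g) • x = x
            rw [mul_smul, inv_smul_eq_iff]
            exact hm.symm)
          simpa using M.mul_mem m.2 this
        · intro hg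
          exact ⟨⟨g, hg⟩, rfl⟩
      refine ⟨O, pairFix O, ⟨x, hxO⟩, ?_, ?_, ?_, setFix_le_pairFix O⟩
      · obtain ⟨g, hg⟩ : ∃ g, g ∉ M := by
          by_contra hc; push Not at hc; exact hM.1 (eq_top_iff.mpr fun g _ => hc g)
        exact ⟨(g : Perm α) x, fun h => hg ((key g).mp h)⟩
      · obtain ⟨g, hg⟩ : ∃ g, g ∉ M := by
          by_contra hc; push Not at hc; exact hM.1 (eq_top_iff.mpr fun g _ => hc g)
        exact pairFix_ne_top hxO (fun h => hg ((key g).mp h)) (by omega)
      · intro g hg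
        set g' : (T : Subgroup (Perm α)) := ⟨g, hg⟩
        by_cases hgM : g' ∈ M
        · refine Or.inl fun a => ?_
          obtain ⟨t, rfl⟩ := htr a
          show (t : Perm α) x ∈ O ↔ ((g' * t : (T : Subgroup (Perm α))) : Perm α) x ∈ O
          rw [key, key, M.mul_mem_cancel_left hgM]
        · refine Or.inr fun a => ?_
          obtain ⟨t, rfl⟩ := htr a
          show (t : Perm α) x ∈ O ↔ ¬ ((g' * t : (T : Subgroup (Perm α))) : Perm α) x ∈ O
          rw [key, key, Subgroup.mul_mem_iff_of_index_two hidx]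
          tauto
    · push Not at htr
      set O : Set α := MulAction.orbit (T : Subgroup (Perm α)) x
      obtain ⟨y, hy⟩ := htr
      refine ⟨O, setFix O, ⟨x, MulAction.mem_orbit_self x⟩, ⟨y, hy⟩,
        setFix_ne_top (MulAction.mem_orbit_self x) hy, ?_, le_rfl⟩
      intro g hg a
      constructor
      · rintro ⟨t, rfl⟩; exact ⟨⟨g, hg⟩ * t, rfl⟩
      · rintro ⟨t, ht⟩
        refine ⟨⟨g, hg⟩⁻¹ * t, ?_⟩
        show g⁻¹ ((t : Perm α) x) = a
        rw [show (t : Perm α) x = g a from ht]; simp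

/-- Two double transpositions meeting in one point give a three-cycle. -/
theorem threeCycle_of_meet (H : Subgroup (Perm α)) {c z y y' p q r : α}
    (h1 : swap z c * swap y y' ∈ H) (h2 : swap c p * swap q r ∈ H)
    (hzc : z ≠ c) (hcp : c ≠ p) (hzp : z ≠ p) (hy : y ≠ c ∧ y ≠ p ∧ y ≠ q ∧ y ≠ r ∧ y ≠ z)
    (hy' : y' ≠ c ∧ y' ≠ p ∧ y' ≠ q ∧ y' ≠ r ∧ y' ≠ z) (hq : q ≠ z ∧ q ≠ c ∧ q ≠ p)
    (hr : r ≠ z ∧ r ≠ c ∧ r ≠ p) :
    ∃ g ∈ H, g.IsThreeCycle := by
  have h3 : (swap z c * swap c p).IsThreeCycle := by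
    rw [swap_comm z c]
    exact isThreeCycle_swap_mul_swap_same hzc.symm hcp hzp
  refine ⟨((swap z c * swap y y') * (swap c p * swap q r)) ^ 4, H.pow_mem (H.mul_mem h1 h2) 4, ?_⟩
  set A := swap z c * swap c p with hA
  set B := swap y y' * swap q r with hB
  have hdis : ∀ a b u v : α, u ≠ a → u ≠ b → v ≠ a → v ≠ b → Commute (swap a b) (swap u v) := by
    intro a b u v e1 e2 e3 e4
    apply Disjoint.commute
    intro x
    by_cases hxu : x = u
    · subst hxu; exact Or.inl (swap_apply_of_ne_of_ne e1 e2)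
    by_cases hxv : x = v
    · subst hxv; exact Or.inl (swap_apply_of_ne_of_ne e3 e4)
    exact Or.inr (swap_apply_of_ne_of_ne hxu hxv)
  have c1 : Commute (swap y y') (swap c p) := (hdis c p y y' hy.1 hy.2.1 hy'.1 hy'.2.1).symm
  have c2 : Commute (swap y y') (swap z c) := (hdis z c y y' hy.2.2.2.2 hy.1 hy'.2.2.2.2 hy'.1).symm
  have c3 : Commute (swap q r) (swap c p) := (hdis c p q r hq.2.1 hq.2.2 hr.2.1 hr.2.2).symm
  have c4 : Commute (swap q r) (swap z c) := (hdis z c q r hq.1 hq.2.1 hr.1 hr.2.1).symm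
  have c5 : Commute (swap q r) (swap y y') :=
    hdis q r y y' hy.2.2.1 hy.2.2.2.1 hy'.2.2.1 hy'.2.2.2.1
  have hab : Commute A B := by
    rw [hA, hB]
    exact ((c2.symm.mul_right c4.symm).mul_left (c1.symm.mul_right c3.symm))
  have hexp : (swap z c * swap y y') * (swap c p * swap q r) = A * B := by
    rw [hA, hB, mul_assoc, ← mul_assoc (swap y y'), c1.eq]
    group
  have hB2 : B ^ 4 = 1 := by
    rw [hB, c5.symm.mul_pow]
    simp [pow_succ]
  have hA3 : A ^ 3 = 1 := by rw [← h3.orderOf]; exact pow_orderOf_eq_one A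
  rw [hexp, hab.mul_pow, hB2, mul_one, pow_succ, hA3, one_mul]
  exact h3

/-- In degree `2 ^ k + 1`, an even overgroup of the even part of a Sylow 2-subgroup fixes its fixed point. -/
theorem overgroup_fixes (T : Sylow 2 (Perm α)) {k : ℕ} (hk2 : 3 ≤ k) (hk : Fintype.card α = 2 ^ k + 1)
    {f : α} (hTf : ∀ g ∈ (T : Subgroup (Perm α)), g f = f) (H : Subgroup (Perm α))
    (hTH : (T : Subgroup (Perm α)) ⊓ alternatingGroup α ≤ H) (hnot : ¬ alternatingGroup α ≤ H) :
    ∀ g ∈ H, g f = f := by
  classical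
  by_contra hcon
  push Not at hcon
  obtain ⟨m, hm, hmf⟩ := hcon
  have h9 : 9 ≤ Fintype.card α := by
    have : 2 ^ 3 ≤ 2 ^ k := Nat.pow_le_pow_right (by omega) hk2
    omega
  obtain ⟨z, hz, hTz, hs, hsw⟩ := exists_pairing T
  have hodd : Odd (Fintype.card α) := by
    rw [hk]
    exact ((Nat.even_pow.mpr ⟨even_two, by omega⟩)).add_one
  obtain ⟨f', hzf, huniq, hTf'⟩ := fixed_of_odd T hodd hTz hs
  have hzz : ∀ a, z (z a) = a := fun a => Perm.congr_fun hz a
  have hff : f' = f := by
    by_contra hne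
    obtain ⟨y, -, hy⟩ := Finset.exists_mem_notMem_of_card_lt_card (s := {f, f'})
      (t := (Finset.univ : Finset α))
      (lt_of_le_of_lt Finset.card_le_two (by rw [Finset.card_univ]; omega))
    simp only [Finset.mem_insert, Finset.mem_singleton, not_or] at hy
    obtain ⟨g, hg, hgy⟩ := transitive_off_fixed T hk hTf hne hy.1
    exact hy.2 (hgy.symm.trans (hTf' g hg))
  subst hff
  have hmove : ∀ a, a ≠ f' → z a ≠ a := fun a ha h => ha (huniq a h)
  have hzne : ∀ a, a ≠ f' → z a ≠ f' := fun a ha h => ha (by rw [← hzz a, h, hzf])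
  -- double transpositions
  have hdd : ∀ a b, a ≠ f' → b ≠ f' → swap a (z a) * swap b (z b) ∈ H := by
    intro a b ha hb
    refine hTH ⟨mul_mem (hsw a) (hsw b), ?_⟩
    refine Perm.mem_alternatingGroup.mpr ?_
    rw [map_mul, sign_swap (hmove a ha).symm, sign_swap (hmove b hb).symm]
    rfl
  -- even transitivity
  have htr : ∀ x y, x ≠ f' → y ≠ f' → ∃ g ∈ H, g f' = f' ∧ g x = y := by
    intro x y hx hy
    obtain ⟨g, hg, hgx⟩ := transitive_off_fixed T hk hTf hx hy
    by_cases hev : sign g = 1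
    · exact ⟨g, hTH ⟨hg, hev⟩, hTf g hg, hgx⟩
    obtain ⟨w, -, hw⟩ := Finset.exists_mem_notMem_of_card_lt_card (s := {f', x, z x})
      (t := (Finset.univ : Finset α)) (lt_of_le_of_lt Finset.card_le_three (by rw [Finset.card_univ]; omega))
    simp only [Finset.mem_insert, Finset.mem_singleton, not_or] at hw
    have hfix1 : swap w (z w) f' = f' := swap_apply_of_ne_of_ne (Ne.symm hw.1) (hzne w hw.1).symm
    have hfix2 : swap w (z w) x = x :=
      swap_apply_of_ne_of_ne (Ne.symm hw.2.1) (fun e => hw.2.2 (by rw [e, hzz]))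
    refine ⟨g * swap w (z w), hTH ⟨mul_mem hg (hsw w), ?_⟩, ?_, ?_⟩
    · refine Perm.mem_alternatingGroup.mpr ?_
      rw [map_mul, sign_swap (hmove w hw.1).symm]
      rw [(Int.units_eq_one_or (sign g)).resolve_left hev]
      rfl
    · rw [Perm.mul_apply, hfix1, hTf g hg]
    · rw [Perm.mul_apply, hfix2, hgx]
  have hto : ∀ a, ∃ g ∈ H, g a = f' := by
    intro a
    by_cases ha : a = f'
    · exact ⟨1, one_mem H, by simp [ha]⟩
    obtain ⟨g, hg, -, hga⟩ := htr (m f') a hmf ha
    exact ⟨(g * m)⁻¹, inv_mem (mul_mem hg hm), by rw [Perm.inv_eq_iff_eq, Perm.mul_apply, hga]⟩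
  have hprim : MulAction.IsPreprimitive H α := by
    apply MulAction.isPreprimitive_of_is_two_pretransitive
    rw [MulAction.is_two_pretransitive_iff]
    intro a b c d hab hcd
    obtain ⟨g1, hg1, e1⟩ := hto a
    obtain ⟨g2, hg2, e2⟩ := hto c
    have hb : g1 b ≠ f' := fun h => hab (g1.injective (e1.trans h.symm))
    have hd : g2 d ≠ f' := fun h => hcd (g2.injective (e2.trans h.symm))
    obtain ⟨g3, hg3, e3, e3'⟩ := htr _ _ hb hd
    refine ⟨⟨g2⁻¹ * g3 * g1, mul_mem (mul_mem (inv_mem hg2) hg3) hg1⟩, ?_, ?_⟩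
    · show (g2⁻¹ * g3 * g1) a = c
      rw [Perm.mul_apply, Perm.mul_apply, e1, e3, ← e2]; simp
    · show (g2⁻¹ * g3 * g1) b = d
      rw [Perm.mul_apply, Perm.mul_apply, e3']; simp
  apply hnot
  -- the conjugate pairing
  set w := m f' with hw
  set s := m * z * m⁻¹ with hsdef
  have hss : ∀ a, s (s a) = a := by
    intro a; simp [hsdef, hzz]
  have hsw' : s w = w := by simp [hsdef, hw, hzf]
  have hsne : ∀ a, a ≠ w → s a ≠ w := fun a ha h => ha (by rw [← hss a, h, hsw'])
  have hsmove : ∀ a, a ≠ w → s a ≠ a := by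
    intro a ha h
    apply ha
    have : z (m⁻¹ a) = m⁻¹ a := by
      apply m.injective
      simpa [hsdef] using h
    have := huniq _ this
    rw [hw, ← this]; simp
  have hdd' : ∀ a b, a ≠ w → b ≠ w → swap a (s a) * swap b (s b) ∈ H := by
    intro a b ha hb
    have ha' : m⁻¹ a ≠ f' := fun h => ha (by rw [hw, ← h]; simp)
    have hb' : m⁻¹ b ≠ f' := fun h => hb (by rw [hw, ← h]; simp)
    have := mul_mem (mul_mem hm (hdd _ _ ha' hb')) (inv_mem hm)
    have e : m * (swap (m⁻¹ a) (z (m⁻¹ a)) * swap (m⁻¹ b) (z (m⁻¹ b))) * m⁻¹ =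
        swap a (s a) * swap b (s b) := by
      have e0 : ∀ u, swap u (s u) = m * swap (m⁻¹ u) (z (m⁻¹ u)) * m⁻¹ := by
        intro u
        rw [← swap_apply_apply]
        simp [hsdef]
      rw [e0 a, e0 b]
      group
    rwa [e] at this
  have hwf : w ≠ f' := hmf
  set c := z w with hc
  have hcf : c ≠ f' := hzne w hwf
  have hcw : c ≠ w := hmove w hwf
  set b := s f' with hb
  have hbw : b ≠ w := hsne f' hwf.symm
  have hbf : b ≠ f' := hsmove f' hwf.symm
  obtain ⟨p, q, r, hdW, hpqr⟩ : ∃ p q r, swap c p * swap q r ∈ H ∧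
      c ≠ p ∧ w ≠ p ∧ (q ≠ w ∧ q ≠ c ∧ q ≠ p) ∧ (r ≠ w ∧ r ≠ c ∧ r ≠ p) ∧ (p = f' ∨ q = f') := by
    by_cases hbc : b = c
    · obtain ⟨v, -, hv⟩ := Finset.exists_mem_notMem_of_card_lt_card (s := {f', c, w})
        (t := (Finset.univ : Finset α)) (lt_of_le_of_lt Finset.card_le_three (by rw [Finset.card_univ]; omega))
      simp only [Finset.mem_insert, Finset.mem_singleton, not_or] at hv
      have hsc : s c = f' := by rw [← hbc, hb, hss]
      refine ⟨f', v, s v, ?_, hcf, hwf, ⟨hv.2.2, hv.2.1, hv.1⟩, ⟨hsne v hv.2.2, ?_, ?_⟩, Or.inl rfl⟩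
      · have := hdd' c v hcw hv.2.2
        rwa [hsc] at this
      · intro h; exact hv.1 (by rw [← hss v, h, hsc])
      · intro h; exact hv.2.1 (by rw [← hss v, h, ← hb, hbc])
    · have hscf : s c ≠ f' := fun h => hbc (by rw [hb, ← h, hss])
      have hscb : s c ≠ b := fun h => hcf (s.injective (h.trans hb))
      refine ⟨s c, f', b, ?_, (hsmove c hcw).symm, (hsne c hcw).symm, ⟨hwf.symm, hcf.symm, hscf.symm⟩,
        ⟨hbw, hbc, hscb.symm⟩, Or.inr rfl⟩
      exact hdd' c f' hcw hwf.symm
  obtain ⟨hcp, hwp, hq, hr, hpq⟩ := hpqr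
  obtain ⟨y, -, hy⟩ := Finset.exists_mem_notMem_of_card_lt_card
    (s := ({f', w, c, p, q, r, z p, z q} : Finset α) ∪ {z r}) (t := (Finset.univ : Finset α))
    (by
      rw [Finset.card_univ]
      rcases hpq with hp | hp
      · have hsub : ({f', w, c, p, q, r, z p, z q} : Finset α) ∪ {z r} ⊆
            ({f', w, c} : Finset α) ∪ ({q, r, z q, z r} : Finset α) := by
          intro u hu
          simp only [Finset.mem_union, Finset.mem_insert, Finset.mem_singleton, hp, hzf] at hu ⊢
          tauto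
        calc _ ≤ (({f', w, c} : Finset α) ∪ ({q, r, z q, z r} : Finset α)).card := Finset.card_le_card hsub
          _ ≤ 3 + 4 := (Finset.card_union_le _ _).trans (Nat.add_le_add Finset.card_le_three Finset.card_le_four)
          _ < Fintype.card α := by omega
      · have hsub : ({f', w, c, p, q, r, z p, z q} : Finset α) ∪ {z r} ⊆
            ({f', w, c} : Finset α) ∪ ({p, r, z p, z r} : Finset α) := by
          intro u hu
          simp only [Finset.mem_union, Finset.mem_insert, Finset.mem_singleton, hp, hzf] at hu ⊢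
          tauto
        calc _ ≤ (({f', w, c} : Finset α) ∪ ({p, r, z p, z r} : Finset α)).card := Finset.card_le_card hsub
          _ ≤ 3 + 4 := (Finset.card_union_le _ _).trans (Nat.add_le_add Finset.card_le_three Finset.card_le_four)
          _ < Fintype.card α := by omega)
  simp only [Finset.mem_union, Finset.mem_insert, Finset.mem_singleton, not_or] at hy
  obtain ⟨⟨yf, yw, yc, yp, yq, yr, yzp, yzq⟩, yzr⟩ := hy
  have hdU : swap w c * swap y (z y) ∈ H := hdd w y hwf yf
  have hzy : ∀ u, y ≠ z u → z y ≠ u := fun u h e => h (by rw [← e, hzz])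
  obtain ⟨g, hg, h3⟩ := threeCycle_of_meet H hdU hdW hcw.symm hcp hwp ⟨yc, yp, yq, yr, yw⟩
    ⟨fun e => yw (z.injective (e.trans hc)), hzy p yzp, hzy q yzq, hzy r yzr,
      fun e => yc (by rw [hc, ← e, hzz])⟩ hq hr
  exact alternatingGroup_le_of_isPreprimitive_of_isThreeCycle_mem hprim h3 hg

end CfsgLib.AltMax
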